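import Groth.Prelude.Def_Neron
import Groth.Prelude.Def_NonAbH2
import Groth.Agent.SchTorsor.Props
import Groth.Agent.EtFound.Descent
import Groth.Agent.NeronBasic.Basic
import Mathlib.AlgebraicGeometry.ValuativeCriterion
import Mathlib.AlgebraicGeometry.SpreadingOut
import Mathlib.AlgebraicGeometry.Sites.Fpqc
import Mathlib.RingTheory.DedekindDomain.Dvr
import Mathlib.RingTheory.Valuation.ValuationRing

/-!
# Generic sections of proper schemes over Dedekind schemes extend
-/

noncomputable section

set_option autoImplicit false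
set_option linter.style.haveILetI false
set_option backward.isDefEq.respectTransparency.types false

universe u

open AlgebraicGeometry CategoryTheory Limits

namespace Groth.Agent.H9TorsExt

theorem valuationRing_atPrime {R : Type u} [CommRing R] [IsDedekindDomain R] (p : Ideal R) [p.IsPrime]
    (A : Type u) [CommRing A] [IsDomain A] [Algebra R A] [IsLocalization.AtPrime A p] : ValuationRing A := by
  by_cases hp : p = ⊥
  · subst hp
    haveI : IsFractionRing R A := by
      show IsLocalization (nonZeroDivisors R) A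
      rw [← Ideal.primeCompl_bot]; infer_instance
    letI : Field A := IsFractionRing.toField R
    infer_instance
  · haveI := IsLocalization.AtPrime.isDiscreteValuationRing_of_dedekind_domain R hp A
    infer_instance

theorem isDominant_lift {W X U : Scheme.{u}} (g : W ⟶ X) [IsDominant g] (j : U ⟶ X) [IsOpenImmersion j]
    (t : W ⟶ U) (ht : t ≫ j = g) : IsDominant t := by
  refine ⟨fun u => ?_⟩
  rw [mem_closure_iff]
  intro O hO huO
  obtain ⟨x, hxO, w, rfl⟩ := g.denseRange.inter_open_nonempty (j '' O) (j.isOpenEmbedding.isOpenMap O hO)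
    ⟨j u, u, huO, rfl⟩
  obtain ⟨v, hv, hvw⟩ := hxO
  refine ⟨v, hv, w, j.isOpenEmbedding.injective ?_⟩
  rw [hvw, ← Scheme.Hom.comp_apply, ht]

/-- A generic section of a proper scheme over a Dedekind domain extends, compatibly. -/
theorem exists_section_extending (R : Type u) [CommRing R] [IsDedekindDomain R] {X : Scheme.{u}}
    (f : X ⟶ Spec (CommRingCat.of R)) [IsProper f] (s₀ : Spec (CommRingCat.of (FractionRing R)) ⟶ X)
    (hs₀ : s₀ ≫ f = Neron.genPt R) :
    ∃ s : Spec (CommRingCat.of R) ⟶ X, s ≫ f = 𝟙 _ ∧ Neron.genPt R ≫ s = s₀ := by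
  let S := Spec (CommRingCat.of R)
  have key : ∀ x : S, ∃ (U : S.Opens) (_ : x ∈ U) (g : U.toScheme ⟶ X)
      (t : Spec (CommRingCat.of (FractionRing R)) ⟶ U.toScheme),
      g ≫ f = U.ι ∧ t ≫ U.ι = Neron.genPt R ∧ t ≫ g = s₀ := by
    intro x
    let A := Localization.AtPrime x.asIdeal
    haveI : IsDomain A := IsLocalization.isDomain_localization x.asIdeal.primeCompl_le_nonZeroDivisors
    haveI : ValuationRing A := valuationRing_atPrime x.asIdeal A
    letI : Algebra A (FractionRing R) := IsLocalization.localizationAlgebraOfSubmonoidLe A (FractionRing R)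
      x.asIdeal.primeCompl (nonZeroDivisors R) x.asIdeal.primeCompl_le_nonZeroDivisors
    haveI : IsScalarTower R A (FractionRing R) :=
      IsLocalization.localization_isScalarTower_of_submonoid_le _ _ _ _ x.asIdeal.primeCompl_le_nonZeroDivisors
    haveI : IsFractionRing A (FractionRing R) :=
      IsFractionRing.isFractionRing_of_isDomain_of_isLocalization x.asIdeal.primeCompl A _
    have hgen : Spec.map (CommRingCat.ofHom (algebraMap A (FractionRing R))) ≫
        Spec.map (CommRingCat.ofHom (algebraMap R A)) = Neron.genPt R := by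
      rw [← Spec.map_comp, ← CommRingCat.ofHom_comp, ← IsScalarTower.algebraMap_eq]
    have hex : ValuativeCriterion.Existence f := by
      have h : (ValuativeCriterion ⊓ @QuasiCompact ⊓ @QuasiSeparated ⊓ @LocallyOfFiniteType :
          MorphismProperty Scheme.{u}) f := by rw [← IsProper.eq_valuativeCriterion]; infer_instance
      exact h.1.1.1.existence
    obtain ⟨⟨l⟩⟩ := hex
      { R := A
        K := FractionRing R
        i₁ := s₀
        i₂ := Spec.map (CommRingCat.ofHom (algebraMap R A))
        commSq := ⟨by rw [hs₀]; exact hgen.symm⟩ }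
    let e : S.presheaf.stalk x ≅ CommRingCat.of A :=
      (StructureSheaf.stalkIso R x).toRingEquiv.toCommRingCatIso.symm
    have hA : Spec.map (CommRingCat.ofHom (algebraMap R A)) = Spec.map e.hom ≫ S.fromSpecStalk x := by
      rw [Spec.fromSpecStalk_eq']
      erw [← Spec.map_comp]
      congr 1
      ext r
      exact ((StructureSheaf.stalkIso R x).symm.commutes r).symm
    let φ : Spec (S.presheaf.stalk x) ⟶ X := Spec.map e.inv ≫ l.l
    have hee : Spec.map e.inv ≫ Spec.map e.hom = 𝟙 (Spec (S.presheaf.stalk x)) := by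
      rw [← Spec.map_comp, e.hom_inv_id, Spec.map_id]
    have hee' : Spec.map e.hom ≫ Spec.map e.inv = 𝟙 (Spec (CommRingCat.of A)) := by
      rw [← Spec.map_comp, e.inv_hom_id, Spec.map_id]
    have hφ : φ ≫ f = S.fromSpecStalk x ≫ 𝟙 S := by
      simp only [φ, Category.assoc, l.fac_right, Category.comp_id]
      rw [hA, reassoc_of% hee]
    obtain ⟨U, hxU, g, hg, hgf⟩ := spread_out_of_isGermInjective' (𝟙 S) f φ hφ
    refine ⟨U, hxU, g, Spec.map (CommRingCat.ofHom (algebraMap A (FractionRing R))) ≫
      Spec.map e.hom ≫ U.fromSpecStalkOfMem x hxU, ?_, ?_, ?_⟩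
    · rw [hgf, Category.comp_id]
    · rw [Category.assoc, Category.assoc, Scheme.Opens.fromSpecStalkOfMem_ι, ← hA, hgen]
    · rw [Category.assoc, Category.assoc, ← hg]
      simp only [φ]
      rw [reassoc_of% hee']
      exact l.fac_left
  choose U hxU g t hgf htι htg using key
  haveI : IsDominant (Neron.genPt R) := inferInstance
  have hcov : TopologicalSpace.IsOpenCover U :=
    top_unique fun x _ => TopologicalSpace.Opens.mem_iSup.2 ⟨x, hxU x⟩
  let 𝒰 := S.openCoverOfIsOpenCover U hcov
  have hagree : ∀ x y : S, pullback.fst (U x).ι (U y).ι ≫ g x = pullback.snd (U x).ι (U y).ι ≫ g y := by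
    intro x y
    let q : pullback (U x).ι (U y).ι ⟶ S := pullback.fst (U x).ι (U y).ι ≫ (U x).ι
    haveI : IsReduced (pullback (U x).ι (U y).ι) := isReduced_of_isOpenImmersion q
    let τ := pullback.lift (t x) (t y) ((htι x).trans (htι y).symm)
    haveI : IsDominant τ := isDominant_lift (Neron.genPt R) q τ (by
      simp only [q, τ, pullback.lift_fst_assoc, htι])
    haveI : IsSchemeTheoreticallyDominant τ := IsSchemeTheoreticallyDominant.of_isDominant _
    refine NeronBasic.eq_of_stDominant f ?_ τ ?_
    · rw [Category.assoc, Category.assoc, hgf, hgf, pullback.condition]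
    · rw [pullback.lift_fst_assoc, pullback.lift_snd_assoc, htg, htg]
  refine ⟨𝒰.glueMorphisms g hagree, 𝒰.hom_ext _ _ fun x => ?_, ?_⟩
  · rw [𝒰.ι_glueMorphisms_assoc, Category.comp_id]
    exact hgf x
  · obtain ⟨x⟩ : Nonempty S := ⟨(Neron.genPt R) (IsLocalRing.closedPoint (FractionRing R))⟩
    rw [← htι x, Category.assoc]
    exact (congrArg (t x ≫ ·) (𝒰.ι_glueMorphisms g hagree x)).trans (htg x)

/-- A generic section of a proper scheme over a Dedekind domain extends. -/
theorem exists_section_of_proper (R : Type u) [CommRing R] [IsDedekindDomain R] {X : Scheme.{u}}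
    (f : X ⟶ Spec (CommRingCat.of R)) [IsProper f] (s₀ : Spec (CommRingCat.of (FractionRing R)) ⟶ X)
    (hs₀ : s₀ ≫ f = Neron.genPt R) : ∃ s : Spec (CommRingCat.of R) ⟶ X, s ≫ f = 𝟙 _ :=
  (exists_section_extending R f s₀ hs₀).imp fun _ h => h.1

theorem main (R : Type u) [CommRing R] [IsDedekindDomain R] (G : Over (Spec (CommRingCat.of R))) [GrpObj G]
    [IsProper G.hom] (P : NonAbH1.TorsorSch G Scheme.fppfPrecoverage)
    (h : NonAbH1.HasSectionOver P.X (Neron.genPt R)) :
    NonAbH1.HasSectionOver P.X (𝟙 (Spec (CommRingCat.of R))) := by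
  haveI : MorphismProperty.DescendsAlong @IsProper
      (@Surjective ⊓ @Flat ⊓ @QuasiCompact : MorphismProperty Scheme.{u}) := EtFound.fpqc_isProper
  obtain ⟨C, hC, hsec⟩ := P.isTorsor.2
  haveI : IsProper P.X.hom := SchTorsor.torsor_property @IsProper (a := P.act)
    ⟨P.isTorsor.1, C, Scheme.fppfPrecoverage_le_fpqcPrecoverage _ hC, hsec⟩ inferInstance
  obtain ⟨s₀, hs₀⟩ := h
  exact exists_section_of_proper R P.X.hom s₀ hs₀

end Groth.Agent.H9TorsExt
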